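import Groth.Prelude.Def_IdealRed
import Mathlib.RingTheory.Nakayama
import Mathlib.RingTheory.LocalRing.ResidueField.Basic
import Mathlib.LinearAlgebra.Matrix.Charpoly.LinearMap
import Mathlib.Algebra.Module.SpanRank
import Mathlib.RingTheory.MvPolynomial.Homogeneous
import Mathlib.Algebra.MvPolynomial.Funext
import Mathlib.LinearAlgebra.FiniteDimensional.Lemmas

/-!
# Reductions of ideals
-/

universe u
open IsLocalRing IdealRed

namespace Groth.Agent.IdealRedLib

section General

variable {R : Type u} [CommRing R]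

theorem isReduction_refl (a : Ideal R) : IsReduction a a := ⟨le_rfl, 0, by simp⟩

theorem isReduction_of_le {a b : Ideal R} (hab : a ≤ b) {s : ℕ} (h : b ^ (s + 1) ≤ a * b ^ s) :
    IsReduction a b :=
  ⟨hab, s, le_antisymm (by rw [pow_succ']; exact Ideal.mul_mono_left hab) h⟩

theorem isReduction_mono {a c b : Ideal R} (h : IsReduction a b) (hac : a ≤ c) (hcb : c ≤ b) :
    IsReduction c b := by
  obtain ⟨s, hs⟩ := h.2
  exact isReduction_of_le hcb (hs.ge.trans (Ideal.mul_mono_left hac))

theorem isReduction_trans {a c b : Ideal R} (h1 : IsReduction a c) (h2 : IsReduction c b) :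
    IsReduction a b := by
  obtain ⟨s, hs⟩ := h1.2
  obtain ⟨u, hu⟩ := h2.2
  have hit : ∀ j, c ^ j * b ^ u = b ^ (u + j) := by
    intro j
    induction j with
    | zero => simp
    | succ j ih => rw [pow_succ', mul_assoc, ih, pow_add, ← mul_assoc, hu, ← pow_add]; ring_nf
  refine ⟨h1.1.trans h2.1, u + s, ?_⟩
  rw [← hit s, ← mul_assoc, hs, hit]; ring_nf

/-- `r` is integrally dependent on `a`. -/
def IntDep (a : Ideal R) (r : R) : Prop :=
  ∃ p : Polynomial R, p.Monic ∧ 0 < p.natDegree ∧ (∀ j : ℕ, p.coeff j ∈ a ^ (p.natDegree - j)) ∧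
    Polynomial.eval r p = 0

theorem intDep_mono {a c : Ideal R} (h : a ≤ c) {r : R} (hr : IntDep a r) : IntDep c r := by
  obtain ⟨p, h1, h2, h3, h4⟩ := hr
  exact ⟨p, h1, h2, fun j => Ideal.pow_right_mono h _ (h3 j), h4⟩

theorem intDep_of_isReduction [IsNoetherianRing R] [Nontrivial R] {a b : Ideal R}
    (h : IsReduction a b) {r : R} (hr : r ∈ b) : IntDep a r := by
  obtain ⟨s, hs⟩ := h.2
  obtain ⟨p, hp, -, hpc, hpe⟩ := LinearMap.exists_monic_and_natDegree_eq_and_coeff_mem_pow_and_aeval_eq_zero R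
    (algebraMap R (Module.End R ↥(b ^ s)) r) a (by
      rintro _ ⟨x, rfl⟩
      rw [Submodule.mem_smul_top_iff, smul_eq_mul, hs, pow_succ']
      exact Ideal.mul_mem_mul hr x.2)
  have hz : p.eval r * r ^ s = 0 := by
    have h0 := LinearMap.congr_fun hpe ⟨r ^ s, Ideal.pow_mem_pow hr s⟩
    rw [Polynomial.aeval_algebraMap_apply_eq_algebraMap_eval] at h0
    exact congrArg Subtype.val h0
  refine ⟨p * Polynomial.X ^ (s + 1), hp.mul (Polynomial.monic_X_pow _), ?_, fun j => ?_, ?_⟩
  · rw [hp.natDegree_mul (Polynomial.monic_X_pow _), Polynomial.natDegree_X_pow]; omega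
  · rw [hp.natDegree_mul (Polynomial.monic_X_pow _), Polynomial.natDegree_X_pow,
      Polynomial.coeff_mul_X_pow']
    split
    · rename_i hj
      rw [show p.natDegree + (s + 1) - j = p.natDegree - (j - (s + 1)) by omega]
      exact hpc _
    · exact zero_mem _
  · rw [Polynomial.eval_mul, Polynomial.eval_pow, Polynomial.eval_X, pow_succ, ← mul_assoc, hz,
      zero_mul]

theorem pow_sup_span_le (a : Ideal R) (r : R) (j : ℕ) :
    (a ⊔ Ideal.span {r}) ^ (j + 1) ≤ a * (a ⊔ Ideal.span {r}) ^ j ⊔ Ideal.span {r ^ (j + 1)} := by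
  induction j with
  | zero => simp
  | succ j ih =>
    rw [pow_succ' _ (j + 1)]
    conv_lhs => arg 1; rw [show (a ⊔ Ideal.span {r}) = a ⊔ Ideal.span {r} from rfl]
    rw [Ideal.sup_mul]
    refine sup_le le_sup_left ((Ideal.mul_mono_right ih).trans ?_)
    rw [Ideal.mul_sup, mul_left_comm, Ideal.span_singleton_mul_span_singleton, ← pow_succ']
    refine sup_le_sup (Ideal.mul_mono_right ?_) le_rfl
    rw [pow_succ']
    exact Ideal.mul_mono_left le_sup_right

theorem isReduction_sup_span_of_intDep [Nontrivial R] {a : Ideal R} {r : R} (h : IntDep a r) :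
    IsReduction a (a ⊔ Ideal.span {r}) := by
  obtain ⟨p, hp, hdeg, hc, he⟩ := h
  obtain ⟨n, hn⟩ : ∃ n, p.natDegree = n + 1 := ⟨p.natDegree - 1, by omega⟩
  set b := a ⊔ Ideal.span {r}
  refine isReduction_of_le le_sup_left (s := n) ((pow_sup_span_le a r n).trans (sup_le le_rfl ?_))
  rw [Ideal.span_le, Set.singleton_subset_iff, SetLike.mem_coe]
  rw [Polynomial.eval_eq_sum_range, Finset.sum_range_succ, hp.coeff_natDegree, one_mul] at he
  have hrn : r ^ (n + 1) = -∑ i ∈ Finset.range p.natDegree, p.coeff i * r ^ i := by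
    rw [← hn]; linear_combination he
  rw [hrn]
  refine neg_mem (sum_mem fun i hi => ?_)
  rw [Finset.mem_range] at hi
  have h1 : p.coeff i ∈ a * b ^ (n - i) := by
    refine (Ideal.mul_mono_right (Ideal.pow_right_mono (le_sup_left : a ≤ b) (n - i))) ?_
    rw [← pow_succ', show n - i + 1 = p.natDegree - i by omega]
    exact hc i
  have h2 := Ideal.mul_mem_mul h1 (Ideal.pow_mem_pow ((le_sup_right : _ ≤ b) (Ideal.mem_span_singleton_self r)) i)
  rwa [mul_assoc, ← pow_add, show n - i + i = n by omega] at h2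

theorem isReduction_of_intDep [IsNoetherianRing R] [Nontrivial R] {a b : Ideal R} (hab : a ≤ b)
    (h : ∀ r ∈ b, IntDep a r) : IsReduction a b := by
  classical
  obtain ⟨S, hS⟩ := IsNoetherian.noetherian b
  suffices ∀ T : Finset R, T ⊆ S → IsReduction a (a ⊔ Ideal.span (T : Set R)) by
    have h' := this S subset_rfl
    rwa [show Ideal.span (S : Set R) = b from hS, sup_eq_right.2 hab] at h'
  intro T
  induction T using Finset.induction_on with
  | empty => intro _; simpa using isReduction_refl a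
  | insert x T _ ih =>
    intro hT
    refine isReduction_trans (ih ((Finset.subset_insert _ _).trans hT)) ?_
    rw [Finset.coe_insert, Ideal.span_insert, sup_left_comm, sup_comm (Ideal.span {x})]
    exact isReduction_sup_span_of_intDep (intDep_mono le_sup_left
      (h x (hS ▸ Submodule.subset_span (hT (Finset.mem_insert_self _ _)))))

end General

section Local

variable {R : Type u} [CommRing R] [IsNoetherianRing R] [IsLocalRing R]

theorem isReduction_of_le_sup {a c b : Ideal R} (h : IsReduction a b) (hc : c ≤ b)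
    (hle : a ≤ c ⊔ b * maximalIdeal R) : IsReduction c b := by
  obtain ⟨s, hs⟩ := h.2
  refine isReduction_of_le hc (s := s) (Submodule.le_of_le_smul_of_le_jacobson_bot
    (IsNoetherian.noetherian _) (maximalIdeal_le_jacobson _) ?_)
  rw [smul_eq_mul]
  calc b ^ (s + 1) = a * b ^ s := hs.symm
    _ ≤ (c ⊔ b * maximalIdeal R) * b ^ s := Ideal.mul_mono_left hle
    _ = c * b ^ s ⊔ maximalIdeal R * b ^ (s + 1) := by rw [Ideal.sup_mul]; ring_nf

theorem exists_fin_generators {R : Type u} [CommRing R] {c : Ideal R} (hc : c.FG) :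
    ∃ x : Fin c.spanFinrank → R, Ideal.span (Set.range x) = c := by
  obtain ⟨s, hcard, hs⟩ := Submodule.FG.exists_span_finset_card_eq_spanFinrank hc
  refine ⟨fun i => (s.equivFinOfCardEq hcard).symm i, ?_⟩
  rw [show (Set.range fun i => ((s.equivFinOfCardEq hcard).symm i : R)) = (s : Set R) from by
    rw [← Function.comp_def, Set.range_comp, Equiv.range_eq_univ, Set.image_univ, Subtype.range_coe]]
  exact hs

theorem spanFinrank_le_card {R : Type u} [CommRing R] {ι : Type*} [Fintype ι] (x : ι → R) :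
    (Ideal.span (Set.range x)).spanFinrank ≤ Fintype.card ι := by
  refine (Submodule.spanFinrank_span_le_ncard_of_finite (Set.finite_range x)).trans ?_
  rw [← Set.image_univ]
  exact (Set.ncard_image_le Set.finite_univ).trans (by simp)

/-- A coefficient that is a unit lets one drop a generator. -/
theorem exists_drop {ι : Type*} [Fintype ι] [DecidableEq ι] (x α : ι → R) (l : ι) (D : Ideal R)
    (hl : IsUnit (α l)) (hD : ∑ i, α i * x i ∈ D) :
    Ideal.span (Set.range x) ≤ Ideal.span (Set.range fun i : {i // i ≠ l} => x i) ⊔ D := by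
  rw [Ideal.span_le]
  rintro _ ⟨i, rfl⟩
  by_cases h : i = l
  · subst h
    obtain ⟨u, hu⟩ := hl
    rw [SetLike.mem_coe, show x i = ((u⁻¹ : Rˣ) : R) * (∑ j, α j * x j) -
      ((u⁻¹ : Rˣ) : R) * ∑ j ∈ Finset.univ.erase i, α j * x j from by
        rw [← Finset.add_sum_erase _ _ (Finset.mem_univ i), ← hu, mul_add, add_sub_cancel_right,
          ← mul_assoc, Units.inv_mul, one_mul]]
    refine sub_mem (Ideal.mem_sup_right (Ideal.mul_mem_left _ _ hD))
      (Ideal.mem_sup_left (Ideal.mul_mem_left _ _ (sum_mem fun j hj => ?_)))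
    exact Ideal.mul_mem_left _ _ (Ideal.subset_span ⟨⟨j, Finset.ne_of_mem_erase hj⟩, rfl⟩)
  · exact Ideal.mem_sup_left (Ideal.subset_span ⟨⟨i, h⟩, rfl⟩)

theorem card_ne {ι : Type*} [Fintype ι] [DecidableEq ι] (l : ι) :
    Fintype.card {i // i ≠ l} < Fintype.card ι :=
  Fintype.card_subtype_lt (x := l) (by simp)

/-- Minimal generators are independent modulo `c m`. -/
theorem mem_max_of_minimal {c : Ideal R} {n : ℕ} {x : Fin n → R} (hx : Ideal.span (Set.range x) = c)
    (hn : c.spanFinrank = n) {α : Fin n → R} (h : ∑ i, α i * x i ∈ c * maximalIdeal R) (i : Fin n) :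
    α i ∈ maximalIdeal R := by
  by_contra hi
  have hle := exists_drop x α i _ (of_not_not fun hu => hi ((mem_maximalIdeal _).2 hu)) h
  rw [hx] at hle
  have heq : c ≤ Ideal.span (Set.range fun j : {j // j ≠ i} => x j) :=
    Submodule.le_of_le_smul_of_le_jacobson_bot (IsNoetherian.noetherian _) (maximalIdeal_le_jacobson _)
      (by rwa [smul_eq_mul, mul_comm])
  have heq' : c = Ideal.span (Set.range fun j : {j // j ≠ i} => x j) := le_antisymm heq (by
    rw [← hx]; exact Ideal.span_mono (by rintro _ ⟨j, rfl⟩; exact ⟨j.1, rfl⟩))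
  have h1 := spanFinrank_le_card fun j : {j // j ≠ i} => x j
  rw [← heq', hn] at h1
  have h2 := card_ne i
  rw [Fintype.card_fin] at h2
  omega

/-- Minimal generators of a minimal reduction are independent modulo `b m`. -/
theorem mem_max_of_minimalReduction {a b : Ideal R} (hab : IsMinimalReduction a b) {n : ℕ}
    {x : Fin n → R} (hx : Ideal.span (Set.range x) = a) (hn : a.spanFinrank = n) {α : Fin n → R}
    (h : ∑ i, α i * x i ∈ b * maximalIdeal R) (i : Fin n) : α i ∈ maximalIdeal R := by
  by_contra hi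
  have hle := exists_drop x α i _ (of_not_not fun hu => hi ((mem_maximalIdeal _).2 hu)) h
  rw [hx] at hle
  have hsub : Ideal.span (Set.range fun j : {j // j ≠ i} => x j) ≤ a := by
    rw [← hx]; exact Ideal.span_mono (by rintro _ ⟨j, rfl⟩; exact ⟨j.1, rfl⟩)
  have heq := hab.2 _ (isReduction_of_le_sup hab.1 (hsub.trans hab.1.1) hle) hsub
  have h1 := spanFinrank_le_card fun j : {j // j ≠ i} => x j
  rw [heq, hn] at h1
  have h2 := card_ne i
  rw [Fintype.card_fin] at h2
  omega

theorem inf_mul_eq {a b : Ideal R} (hab : IsMinimalReduction a b) :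
    a ⊓ b * maximalIdeal R = a * maximalIdeal R := by
  refine le_antisymm (fun y hy => ?_) (le_inf Ideal.mul_le_left (Ideal.mul_mono_left hab.1.1))
  obtain ⟨x, hx⟩ := exists_fin_generators (IsNoetherian.noetherian a)
  obtain ⟨α, hα⟩ := (Submodule.mem_span_range_iff_exists_fun R).1 (hx.ge hy.1)
  simp only [smul_eq_mul] at hα
  subst hα
  refine sum_mem fun i _ => ?_
  rw [mul_comm (α i)]
  exact Ideal.mul_mem_mul (hx.le (Ideal.subset_span ⟨i, rfl⟩)) (mem_max_of_minimalReduction hab hx rfl hy.2 i)

/-- Every reduction contains a minimal one. -/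
theorem exists_minimal {a b : Ideal R} (hab : IsReduction a b) :
    ∃ c : Ideal R, c ≤ a ∧ IsMinimalReduction c b := by
  classical
  have hex : ∃ n, ∃ x : Fin n → R, Ideal.span (Set.range x) ≤ a ∧ IsReduction (Ideal.span (Set.range x)) b := by
    obtain ⟨x, hx⟩ := exists_fin_generators (IsNoetherian.noetherian a)
    exact ⟨_, x, hx.le, hx.symm ▸ hab⟩
  let n := Nat.find hex
  obtain ⟨x, hxa, hxr⟩ := Nat.find_spec hex
  set c := Ideal.span (Set.range x)
  refine ⟨c, hxa, hxr, fun d hd hdc => ?_⟩
  let k := ResidueField R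
  let S : Submodule R (Fin n → R) :=
    Submodule.comap (Fintype.linearCombination R x) (d : Submodule R R)
  let V : Submodule k (Fin n → k) := Submodule.span k ((fun α i => residue R (α i)) '' (S : Set (Fin n → R)))
  have hlift : ∀ v ∈ V, ∃ α ∈ S, (fun i => residue R (α i)) = v := by
    intro v hv
    induction hv using Submodule.span_induction with
    | mem v hv => exact hv
    | zero => exact ⟨0, zero_mem _, by ext i; simp⟩
    | add v w _ _ hv hw =>
      obtain ⟨α, hα, rfl⟩ := hv
      obtain ⟨β, hβ, rfl⟩ := hw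
      exact ⟨α + β, add_mem hα hβ, by ext i; simp⟩
    | smul t v _ hv =>
      obtain ⟨α, hα, rfl⟩ := hv
      obtain ⟨r, rfl⟩ := residue_surjective t
      exact ⟨r • α, S.smul_mem r hα, by ext i; simp⟩
  have hS : ∀ α ∈ S, ∑ i, α i * x i ∈ d := fun α hα => by
    simpa [S, Fintype.linearCombination_apply] using hα
  by_cases hV : V = ⊤
  · refine le_antisymm hdc ?_
    refine Submodule.le_of_le_smul_of_le_jacobson_bot (I := maximalIdeal R) (IsNoetherian.noetherian _)
      (maximalIdeal_le_jacobson _) ?_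
    rw [Ideal.span_le]
    rintro _ ⟨l, rfl⟩
    obtain ⟨α, hα, hαl⟩ := hlift (Pi.single l 1) (hV ▸ trivial)
    rw [SetLike.mem_coe, smul_eq_mul,
      show x l = (∑ i, α i * x i) - ∑ i, (α i - Pi.single (M := fun _ => R) l 1 i) * x i from by
        simp [sub_mul, Finset.sum_sub_distrib, Pi.single_apply]]
    refine sub_mem (Ideal.mem_sup_left (hS α hα)) (Ideal.mem_sup_right (sum_mem fun i _ => ?_))
    refine Ideal.mul_mem_mul ((residue_eq_zero_iff _).1 ?_) (Ideal.subset_span ⟨i, rfl⟩)
    rw [map_sub, show residue R (α i) = _ from congrFun hαl i]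
    simp [Pi.single_apply, apply_ite (residue R)]
  · exfalso
    let m := Module.finrank k V
    have hm : m < n := (Submodule.finrank_lt hV).trans_eq (Module.finrank_fin_fun k)
    let bs := Module.finBasis k V
    choose β hβS hβ using fun j => hlift _ (bs j).2
    refine Nat.find_min hex hm ⟨fun j => ∑ i, β j i * x i, Ideal.span_le.2 ?_,
      isReduction_of_le_sup hd (Ideal.span_le.2 ?_) fun y hy => ?_⟩
    · rintro _ ⟨j, rfl⟩; exact hxa (hdc (hS _ (hβS j)))
    · rintro _ ⟨j, rfl⟩; exact hd.1 (hS _ (hβS j))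
    · obtain ⟨α, hα⟩ := (Submodule.mem_span_range_iff_exists_fun R).1 (hdc hy)
      simp only [smul_eq_mul] at hα
      have hαV : (fun i => residue R (α i)) ∈ V :=
        Submodule.subset_span ⟨α, by simpa [S, Fintype.linearCombination_apply] using hα.symm ▸ hy, rfl⟩
      obtain ⟨t, ht⟩ := (Submodule.mem_span_range_iff_exists_fun k).1
        (bs.span_eq.ge (show (⟨_, hαV⟩ : V) ∈ (⊤ : Submodule k V) from trivial))
      choose t' ht' using fun j => residue_surjective (R := R) (t j)
      rw [show y = (∑ j, t' j * ∑ i, β j i * x i) + ∑ i, (α i - ∑ j, t' j * β j i) * x i from by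
        simp only [sub_mul, Finset.sum_sub_distrib, Finset.mul_sum, Finset.sum_mul, mul_assoc]
        rw [Finset.sum_comm, ← hα]
        abel]
      refine Submodule.add_mem_sup (sum_mem fun j _ => Ideal.mul_mem_left _ _ (Ideal.subset_span ⟨j, rfl⟩))
        (sum_mem fun i _ => ?_)
      rw [mul_comm b]
      refine Ideal.mul_mem_mul ((residue_eq_zero_iff _).1 ?_) (hxr.1 (Ideal.subset_span ⟨i, rfl⟩))
      have h0 := congrFun (congrArg Subtype.val ht) i
      simp only [Submodule.coe_sum, Submodule.coe_smul, Finset.sum_apply, Pi.smul_apply, smul_eq_mul,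
        ← hβ] at h0
      simp [ht', h0]

/-- Analytic independence. -/
def AnIndep (b : Ideal R) {t : ℕ} (v : Fin t → R) : Prop :=
  ∀ (h : ℕ) (f : MvPolynomial (Fin t) R), f.IsHomogeneous h →
    MvPolynomial.eval v f ∈ b ^ h * maximalIdeal R → ∀ d : Fin t →₀ ℕ, f.coeff d ∈ maximalIdeal R

end Local

end Groth.Agent.IdealRedLib
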